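import Groth.Agent.Lib.PerfLoc25.Slice
import Groth.Agent.Lib.DerBC.PseudoCoh
import Mathlib.Algebra.Homology.HomotopyCategory.MappingCone
import Mathlib.Algebra.Homology.HomotopyCategory.HomComplex

/-! # Maps out of strictly perfect complexes are locally null-homotopic, on sites -/

set_option autoImplicit false
set_option linter.all false
set_option maxHeartbeats 800000
set_option backward.isDefEq.respectTransparency false
set_option backward.isDefEq.respectTransparency.types false
universe u

open CategoryTheory CategoryTheory.Limits Opposite GrothLib.ModSupp25 HomologicalComplex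

noncomputable section

namespace GrothLib.PerfLoc25

variable {C : Type u} [SmallCategory C] {J : GrothendieckTopology C} {O : Sheaf J CommRingCat.{u}}

instance additiveRestr (W : C) : (ModSite.restr O W).Additive := exists_lift.additive_restr O W

/-- Restriction of complexes to a slice. -/
abbrev rc (W : C) : CochainComplex (ModSite.Mod O) ℤ ⥤ CochainComplex (ModSite.Mod (O.over W)) ℤ :=
  (ModSite.restr O W).mapHomologicalComplex (ComplexShape.up ℤ)

/-- Maps of restricted complexes. -/
abbrev CHom (W : C) (E F : CochainComplex (ModSite.Mod O) ℤ) := (rc W).obj E ⟶ (rc W).obj F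

/-- Restriction of a map of complexes to a smaller slice. -/
def resCH {W W' : C} (g : W' ⟶ W) {E F : CochainComplex (ModSite.Mod O) ℤ} (α : CHom W E F) : CHom W' E F where
  f i := resHom g (α.f i)
  comm' i j _ := by
    have h := congrArg (resHom g) (α.comm i j)
    rw [resHom_comp, resHom_comp] at h
    exact h

theorem resCH_f {W W' : C} (g : W' ⟶ W) {E F : CochainComplex (ModSite.Mod O) ℤ} (α : CHom W E F) (i : ℤ) :
    (resCH g α).f i = resHom g (α.f i) := rfl

theorem resCH_resCH {W W' W'' : C} (g : W' ⟶ W) (h : W'' ⟶ W') {E F : CochainComplex (ModSite.Mod O) ℤ}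
    (α : CHom W E F) : resCH h (resCH g α) = resCH (h ≫ g) α :=
  HomologicalComplex.hom_ext _ _ fun i => resHom_resHom g h (α.f i)

/-- Restriction of a homotopy. -/
def resHty {W W' : C} (g : W' ⟶ W) {E F : CochainComplex (ModSite.Mod O) ℤ} {α β : CHom W E F}
    (h : Homotopy α β) : Homotopy (resCH g α) (resCH g β) where
  hom i j := resHom g (h.hom i j)
  zero i j hij := (congrArg (resHom g) (h.zero i j hij)).trans (resHom_zero g _ _)
  comm i := by
    have e := congrArg (resHom g) (h.comm i)
    rw [resHom_add, resHom_add] at e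
    refine e.trans ?_
    congr 1

theorem exists_step {E F : CochainComplex (ModSite.Mod O) ℤ} {W : C} (α : CHom W E F) (k : ℤ)
    (hk : ∀ i, k < i → α.f i = 0) (hF : F.ExactAt k)
    (hE : DCoh.IsFinFreeSummandMod (ModSite.ringSh O) (E.X k)) :
    ∃ R ∈ J W, ∀ ⦃W' : C⦄ (g : W' ⟶ W), R g →
      ∃ β : CHom W' E F, Nonempty (Homotopy (resCH g α) β) ∧ ∀ i, k ≤ i → β.f i = 0 := by
  have hα : α.f k ≫ (ModSite.restr O W).map (F.d k (k + 1)) = 0 := by
    refine (α.comm k (k + 1)).trans ?_
    rw [hk (k + 1) (by omega), comp_zero]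
  obtain ⟨R, hR, hl⟩ := exists_lift hE _ ((F.exactAt_iff' (k - 1) k (k + 1) (by simp) (by simp)).1 hF) (α.f k) hα
  refine ⟨R, hR, fun W' g hg => ?_⟩
  obtain ⟨h, hh⟩ := hl g hg
  let P := ModSite.restr O W'
  let hom : ∀ i i', (ComplexShape.up ℤ).Rel i' i → (((rc W').obj E).X i ⟶ ((rc W').obj F).X i') :=
    fun i i' hi => if hik : i = k then
      P.map (eqToHom (congrArg E.X hik)) ≫ h ≫ P.map (eqToHom (congrArg F.X (show k - 1 = i' by
        have hi' : i' + 1 = i := hi
        omega))) else 0
  let N := Homotopy.nullHomotopicMap' hom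
  refine ⟨resCH g α - N, ⟨Homotopy.equivSubZero.symm
    ((Homotopy.ofEq (sub_sub_cancel (resCH g α) N)).trans (Homotopy.nullHomotopy' hom))⟩, fun i hi => ?_⟩
  have h₁ : (ComplexShape.up ℤ).Rel i (i + 1) := rfl
  have h₂ : (ComplexShape.up ℤ).Rel (i - 1) i := show i - 1 + 1 = i by omega
  rw [HomologicalComplex.sub_f_apply, Homotopy.nullHomotopicMap'_f h₂ h₁ hom]
  simp only [hom, dif_neg (show ¬ i + 1 = k by omega), comp_zero, zero_add, sub_eq_zero]
  by_cases hik : i = k
  · subst hik
    rw [dif_pos rfl, eqToHom_refl, eqToHom_refl, CategoryTheory.Functor.map_id, CategoryTheory.Functor.map_id]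
    exact (hh.symm.trans (congrArg (· ≫ P.map (F.d (i - 1) i))
      ((Category.id_comp _).trans (Category.comp_id _)).symm))
  · rw [dif_neg hik, zero_comp, resCH_f, hk i (by omega)]
    exact resHom_zero g _ _

/-- A map to a complex exact in the range of a strictly perfect complex is locally null-homotopic. -/
theorem exists_null {E F : CochainComplex (ModSite.Mod O) ℤ}
    (hE : ∀ i, DCoh.IsFinFreeSummandMod (ModSite.ringSh O) (E.X i)) (a : ℤ) (hEa : ∀ i, i < a → IsZero (E.X i))
    (hF : ∀ i, a ≤ i → F.ExactAt i) (n : ℕ) :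
    ∀ (W : C) (α : CHom W E F), (∀ i, a + n ≤ i → α.f i = 0) →
      ∃ R ∈ J W, ∀ ⦃W' : C⦄ (g : W' ⟶ W), R g → Nonempty (Homotopy (resCH g α) 0) := by
  induction n with
  | zero =>
    intro W α hα
    refine ⟨⊤, J.top_mem W, fun W' g _ => ⟨Homotopy.ofEq (HomologicalComplex.hom_ext _ _ fun i => ?_)⟩⟩
    by_cases hi : i < a
    · exact ((ModSite.restr O W').map_isZero (hEa i hi)).eq_of_src _ _
    · rw [resCH_f, hα i (by omega)]
      exact resHom_zero g _ _
  | succ n ih =>
    intro W α hα
    obtain ⟨R, hR, hs⟩ := exists_step α (a + n) (fun i hi => hα i (by push_cast; omega)) (hF _ (by omega)) (hE _)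
    choose β hβ hβ' using fun (W' : C) (g : W' ⟶ W) (hg : R g) => hs g hg
    choose R' hR' hn using fun (W' : C) (g : W' ⟶ W) (hg : R g) => ih W' (β W' g hg) (hβ' W' g hg)
    refine ⟨Sieve.bind R.arrows fun W' g hg => R' W' g hg, J.bind_covering hR fun W' g hg => hR' W' g hg, ?_⟩
    rintro W'' _ ⟨W', h, g, hg, hh, rfl⟩
    obtain ⟨h₁⟩ := hβ W' g hg
    obtain ⟨h₂⟩ := hn W' g hg h hh
    exact ⟨(Homotopy.ofEq (resCH_resCH g h α).symm).trans ((resHty h h₁).trans h₂)⟩

open CochainComplex HomComplex in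
/-- A null-homotopy into a mapping cone gives a lift up to homotopy. -/
theorem exists_lift_of_null {A : Type*} [Category A] [Preadditive A] [HasBinaryBiproducts A]
    {E F G : CochainComplex A ℤ} (α : E ⟶ F) (f : G ⟶ F)
    (h : Homotopy (α ≫ CochainComplex.mappingCone.inr f) 0) :
    ∃ β : E ⟶ G, Nonempty (Homotopy (β ≫ f) α) := by
  obtain ⟨z, hz⟩ := Cochain.equivHomotopy _ _ h
  let u : Cochain E G 0 := z.comp (mappingCone.fst f).1 (by omega)
  let v : Cochain E F (-1) := z.comp (mappingCone.snd f) (add_zero (-1))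
  have hz' : z = mappingCone.liftCochain f u v (by omega) :=
    (mappingCone.ext_cochain_to_iff f (-1) 0 (by omega)).2 ⟨by simp [u], by simp [v]⟩
  rw [hz', mappingCone.δ_liftCochain f u v (by omega) 1 (by omega)] at hz
  simp only [Cochain.ofHom_zero, add_zero] at hz
  have h1 := congrArg (fun c => c.comp (mappingCone.fst f).1 (zero_add 1)) hz
  have h2 := congrArg (fun c => c.comp (mappingCone.snd f) (add_zero 0)) hz
  simp at h1 h2
  let β : E ⟶ G := Cocycle.homOf (Cocycle.mk u 1 (by omega) (by simpa using h1))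
  refine ⟨β, ⟨((Cochain.equivHomotopy _ _).symm ⟨v, ?_⟩).symm⟩⟩
  rw [Cochain.ofHom_comp]
  simp only [β, Cocycle.cochain_ofHom_homOf_eq_coe]
  exact h2

theorem resCH_map {W W' : C} (g : W' ⟶ W) {E F : CochainComplex (ModSite.Mod O) ℤ} (α : E ⟶ F) :
    resCH g ((rc W).map α) = (rc W').map α := HomologicalComplex.hom_ext _ _ fun i => resHom_map g (α.f i)

/-- Maps from strictly perfect complexes lift locally up to homotopy. -/
theorem exists_local_lift {E F G : CochainComplex (ModSite.Mod O) ℤ} (α : E ⟶ F) (f : G ⟶ F)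
    (hE : DCoh.IsStrictlyPerfectMod (ModSite.ringSh O) E) (a : ℤ) (hEa : ∀ j, j < a → IsZero (E.X j))
    (hf : ∀ j, a < j → IsIso (HomologicalComplex.homologyMap f j))
    (hfa : Epi (HomologicalComplex.homologyMap f a)) (V : C) :
    ∃ R ∈ J V, ∀ ⦃W : C⦄ (g : W ⟶ V), R g →
      ∃ β : CHom W E G, Nonempty (Homotopy (β ≫ (rc W).map f) ((rc W).map α)) := by
  obtain ⟨⟨a', b, hab⟩, hfl⟩ := hE
  letI := HasDerivedCategory.standard (ModSite.Mod O)
  let F₀ := fun i => DerivedCategory.homologyFunctorFactors (ModSite.Mod O) i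
  have hC : ∀ i, a ≤ i → (CochainComplex.mappingCone f).ExactAt i := fun i hi =>
    (exactAt_iff_isZero_homology _ _).2
    (((DerBC.cone_vanish_iff _ (DerivedCategory.mappingCone_triangle_distinguished f) a).2
      ⟨fun j hj => ((MorphismProperty.isomorphisms _).arrow_mk_iso_iff
        (Arrow.isoMk ((F₀ j).app G) ((F₀ j).app F) ((F₀ j).hom.naturality f).symm)).2 (hf j hj),
      ((MorphismProperty.epimorphisms _).arrow_mk_iso_iff
        (Arrow.isoMk ((F₀ a).app G) ((F₀ a).app F) ((F₀ a).hom.naturality f).symm)).2 hfa⟩ i hi).of_iso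
      ((F₀ i).app _).symm)
  obtain ⟨R, hR, hn⟩ := exists_null hfl a hEa hC (b + 1 - a).toNat V
    ((rc V).map (α ≫ CochainComplex.mappingCone.inr f))
    (fun i hi => ((ModSite.restr O V).map_isZero (hab i (Or.inr (by omega)))).eq_of_src _ _)
  refine ⟨R, hR, fun W g hg => ?_⟩
  obtain ⟨h⟩ := hn g hg
  have h' : Homotopy ((rc W).map α ≫ CochainComplex.mappingCone.inr ((rc W).map f)) 0 :=
    (Homotopy.ofEq (by
      rw [← CochainComplex.mappingCone.map_inr f (ModSite.restr O W), ← Category.assoc, ← Functor.map_comp,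
        resCH_map g])).trans
    ((h.compRight (CochainComplex.mappingCone.mapHomologicalComplexIso f (ModSite.restr O W)).hom).trans
      (Homotopy.ofEq zero_comp))
  exact exists_lift_of_null _ _ h'

end GrothLib.PerfLoc25
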