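import Groth.Agent.Lib.ModSupp25.Restr
import Groth.Prelude.Def_AlgSpPerf
import Mathlib.Algebra.Homology.Homotopy

/-! # Maps between restrictions to slices, and maps out of free modules -/

set_option autoImplicit false
set_option linter.all false
set_option maxHeartbeats 800000
set_option backward.isDefEq.respectTransparency false
set_option backward.isDefEq.respectTransparency.types false
universe u

open CategoryTheory CategoryTheory.Limits Opposite GrothLib.ModSupp25

noncomputable section

namespace GrothLib.PerfLoc25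

variable {C : Type u} [SmallCategory C] {J : GrothendieckTopology C} (O : Sheaf J CommRingCat.{u})

/-- Maps between restrictions. -/
abbrev SHom (W : C) (M N : ModSite.Mod O) := (ModSite.restr O W).obj M ⟶ (ModSite.restr O W).obj N

variable {O}

/-- Value of a map on a section. -/
def ev {W : C} {M N : ModSite.Mod O} (φ : SHom O W M N) {A : C} (p : A ⟶ W) (m : M.val.obj (op A)) : N.val.obj (op A) :=
  φ.val.app (op (Over.mk p)) m

theorem app_congr {W : C} {M N : ModSite.Mod O} (φ : SHom O W M N) {A : C} {p p' : A ⟶ W} (hp : p = p')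
    (m : M.val.obj (op A)) :
    ev φ p m = ev φ p' m := by
  subst hp
  rfl

theorem ext' {W : C} {M N : ModSite.Mod O} {φ ψ : SHom O W M N}
    (h : ∀ (A : C) (p : A ⟶ W) (m : M.val.obj (op A)), ev φ p m = ev ψ p m) : φ = ψ := by
  apply SheafOfModules.hom_ext
  refine PresheafOfModules.hom_ext fun P => ?_
  obtain ⟨⟨A, ⟨⟨⟩⟩, p⟩⟩ := P
  exact ModuleCat.hom_ext (LinearMap.ext fun m => h A p m)

/-- Restriction of a map to a smaller slice. -/
def resHom {W W' : C} (g : W' ⟶ W) {M N : ModSite.Mod O} (φ : SHom O W M N) : SHom O W' M N :=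
  ⟨{ app := fun P => φ.val.app (op ((Over.map g).obj P.unop))
     naturality := fun {P Q} f => φ.val.naturality ((Over.map g).map f.unop).op }⟩

theorem resHom_app {W W' : C} (g : W' ⟶ W) {M N : ModSite.Mod O} (φ : SHom O W M N) {A : C} (p : A ⟶ W')
    (m : M.val.obj (op A)) :
    ev (resHom g φ) p m = ev φ (p ≫ g) m := rfl

theorem resHom_comp {W W' : C} (g : W' ⟶ W) {M N P : ModSite.Mod O} (φ : SHom O W M N) (ψ : SHom O W N P) :
    resHom g (φ ≫ ψ) = resHom g φ ≫ resHom g ψ := rfl

theorem resHom_add {W W' : C} (g : W' ⟶ W) {M N : ModSite.Mod O} (φ ψ : SHom O W M N) :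
    resHom g (φ + ψ) = resHom g φ + resHom g ψ := rfl

theorem resHom_zero {W W' : C} (g : W' ⟶ W) (M N : ModSite.Mod O) : resHom g (0 : SHom O W M N) = 0 := rfl

theorem resHom_map {W W' : C} (g : W' ⟶ W) {M N : ModSite.Mod O} (f : M ⟶ N) :
    resHom g ((ModSite.restr O W).map f) = (ModSite.restr O W').map f := rfl

theorem resHom_resHom {W W' W'' : C} (g : W' ⟶ W) (h : W'' ⟶ W') {M N : ModSite.Mod O} (φ : SHom O W M N) :
    resHom h (resHom g φ) = resHom (h ≫ g) φ :=
  ext' fun A p m => app_congr φ (Category.assoc p h g) m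

theorem resHom_sum {W W' : C} (g : W' ⟶ W) {M N : ModSite.Mod O} {ι : Type*} (s : Finset ι) (φ : ι → SHom O W M N) :
    resHom g (∑ i ∈ s, φ i) = ∑ i ∈ s, resHom g (φ i) :=
  map_sum (AddMonoidHom.mk' (resHom (M := M) (N := N) g) (resHom_add g)) φ s

/-- The unit section. -/
abbrev one (A : C) : (ModSite.unit O).val.obj (op A) := (1 : O.obj.obj (op A))

/-- The map out of the structure sheaf with prescribed value. -/
def unitHom {W : C} {N : ModSite.Mod O} (m : N.val.obj (op W)) : SHom O W (ModSite.unit O) N :=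
  ⟨{ app := fun P => ModuleCat.ofHom (R := O.obj.obj (op P.unop.left))
        (LinearMap.toSpanSingleton (O.obj.obj (op P.unop.left)) (N.val.obj (op P.unop.left))
          (N.val.map P.unop.hom.op m))
     naturality := fun {P Q} f => ModuleCat.hom_ext (LinearMap.ext fun r => by
        change HSMul.hSMul (α := O.obj.obj (op Q.unop.left)) ((O.obj.map f.unop.left.op) r) (N.val.map Q.unop.hom.op m) =
          N.val.map f.unop.left.op (HSMul.hSMul (α := O.obj.obj (op P.unop.left)) r (N.val.map P.unop.hom.op m))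
        refine Eq.trans ?_ (N.val.map_smul f.unop.left.op r (N.val.map P.unop.hom.op m)).symm
        refine congrArg (HSMul.hSMul (α := O.obj.obj (op Q.unop.left)) (β := N.val.obj (op Q.unop.left)) _) ?_
        refine Eq.trans ?_ (PresheafOfModules.map_comp_apply N.val P.unop.hom.op f.unop.left.op m)
        exact PresheafOfModules.congr_map_apply N.val (congrArg Quiver.Hom.op (Over.w f.unop).symm) m) }⟩

theorem unitHom_app {W : C} {N : ModSite.Mod O} (m : N.val.obj (op W)) {A : C} (p : A ⟶ W) :
    ev (unitHom m) p (one A) = N.val.map p.op m :=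
  one_smul _ _

theorem hom_ext_unit {W : C} {N : ModSite.Mod O} {φ ψ : SHom O W (ModSite.unit O) N}
    (h : ev φ (𝟙 W) (one W) = ev ψ (𝟙 W) (one W)) :
    φ = ψ := by
  refine ext' fun A p r => ?_
  have h1 : ∀ χ : SHom O W (ModSite.unit O) N,
      ev χ p (one A) = N.val.map p.op (ev χ (𝟙 W) (one W)) := fun χ => by
    have := PresheafOfModules.naturality_apply χ.val
      (Over.homMk p (Category.comp_id p) : Over.mk p ⟶ Over.mk (𝟙 W)).op (one W)
    refine Eq.trans ?_ this
    exact congrArg (χ.val.app (op (Over.mk p))) (map_one (O.obj.map p.op).hom).symm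
  have h2 : ∀ χ : SHom O W (ModSite.unit O) N,
      ev χ p r = HSMul.hSMul (α := O.obj.obj (op A)) r (ev χ p (one A)) := fun χ =>
    (congrArg (χ.val.app (op (Over.mk p))) (mul_one (show O.obj.obj (op A) from r)).symm).trans
      ((χ.val.app (op (Over.mk p))).hom.map_smul (show O.obj.obj (op A) from r) (one A))
  rw [h2, h2, h1, h1, h]

/-- Coordinates on a finite free module. -/
def proj (n : ℕ) (i : Fin n) : SheafOfModules.free (R := ModSite.ringSh O) (ULift.{u} (Fin n)) ⟶ ModSite.unit O :=
  Sigma.desc fun j => if j.down = i then 𝟙 _ else 0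

/-- Basis of a finite free module. -/
def incl (n : ℕ) (i : Fin n) : ModSite.unit O ⟶ SheafOfModules.free (R := ModSite.ringSh O) (ULift.{u} (Fin n)) :=
  Sigma.ι (fun _ : ULift.{u} (Fin n) => SheafOfModules.unit (ModSite.ringSh O)) ⟨i⟩

theorem sum_proj_incl (n : ℕ) :
    ∑ i, proj (O := O) n i ≫ incl n i = 𝟙 (SheafOfModules.free (R := ModSite.ringSh O) (ULift.{u} (Fin n))) := by
  refine Sigma.hom_ext _ _ fun j => ?_
  rw [Preadditive.comp_sum, Finset.sum_eq_single j.down]
  · rw [proj, Sigma.ι_desc_assoc, if_pos rfl, Category.id_comp]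
    exact (Category.comp_id _).symm
  · intro b _ hb
    rw [proj, Sigma.ι_desc_assoc, if_neg (Ne.symm hb)]
    exact zero_comp
  · simp

/-- A map out of a retract of a finite free module lifts locally, if it lifts on sections. -/
theorem exists_lift {E : ModSite.Mod O} (hE : DCoh.IsFinFreeSummandMod (ModSite.ringSh O) E)
    (S : ShortComplex (ModSite.Mod O)) (hS : S.Exact) {W : C} (φ : SHom O W E S.X₂)
    (h : φ ≫ (ModSite.restr O W).map S.g = 0) :
    ∃ R ∈ J W, ∀ ⦃W' : C⦄ (g : W' ⟶ W), R g →
      ∃ l : SHom O W' E S.X₁, l ≫ (ModSite.restr O W').map S.f = resHom g φ := by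
  obtain ⟨n, j, p, hjp⟩ := hE
  have := additive_restr O
  let φi : Fin n → SHom O W (ModSite.unit O) S.X₂ := fun i => (ModSite.restr O W).map (incl n i ≫ p) ≫ φ
  let s : Fin n → S.X₂.val.obj (op W) := fun i => ev (φi i) (𝟙 W) (one W)
  have hs : ∀ i, app O S.g W (s i) = 0 := fun i => by
    have h' : φi i ≫ (ModSite.restr O W).map S.g = 0 := by rw [Category.assoc, h, comp_zero]
    exact congrArg (fun χ : SHom O W (ModSite.unit O) S.X₃ => ev χ (𝟙 W) (one W)) h'
  choose R hR hl using fun i => exists_cover_of_exact O S hS (s i) (hs i)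
  refine ⟨⨅ i ∈ (Finset.univ : Finset (Fin n)), R i, ?_, fun W' g hg => ?_⟩
  · classical
    induction (Finset.univ : Finset (Fin n)) using Finset.induction with
    | empty => simp
    | insert a s ha ih =>
      rw [Finset.iInf_insert]
      exact J.intersection_covering (hR a) ih
  have hg' : ∀ i, R i g := fun i => (iInf₂_le i (Finset.mem_univ i) : (⨅ i ∈ Finset.univ, R i) ≤ R i) _ hg
  choose t ht using fun i => hl i g (hg' i)
  refine ⟨∑ i, (ModSite.restr O W').map (j ≫ proj n i) ≫ unitHom (t i), ?_⟩
  have key : ∀ i, unitHom (t i) ≫ (ModSite.restr O W').map S.f = resHom g (φi i) := fun i => by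
    refine hom_ext_unit ?_
    change S.f.val.app (op W') (ev (unitHom (t i)) (𝟙 W') (one W')) = _
    rw [unitHom_app, op_id, PresheafOfModules.map_id]
    refine ((ht i).trans ?_).trans (app_congr (φi i) (Category.id_comp g) (one W')).symm
    have e := PresheafOfModules.naturality_apply (φi i).val
      (Over.homMk g (Category.comp_id g) : Over.mk g ⟶ Over.mk (𝟙 W)).op (one W)
    refine Eq.trans ?_ (congrArg ((φi i).val.app (op (Over.mk g))) (map_one (O.obj.map g.op).hom))
    exact e.symm
  rw [Preadditive.sum_comp]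
  simp only [Category.assoc, key, φi, resHom_comp, resHom_map, ← Functor.map_comp_assoc]
  rw [← Preadditive.sum_comp, ← Functor.map_sum, ← Preadditive.comp_sum]
  have : ∑ i, proj n i ≫ incl n i ≫ p = p := by
    rw [← Finset.sum_congr rfl (fun i _ => Category.assoc (proj n i) (incl n i) p), ← Preadditive.sum_comp,
      sum_proj_incl, Category.id_comp]
  rw [this, hjp, CategoryTheory.Functor.map_id, Category.id_comp]
where
  additive_restr (O : Sheaf J CommRingCat.{u}) : ∀ W : C, (ModSite.restr O W).Additive := fun W =>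
    ⟨fun {M N f g} => rfl⟩

end GrothLib.PerfLoc25
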